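import Mathlib.Algebra.Module.PID
import Mathlib.RingTheory.AdjoinRoot
import Mathlib.Algebra.Polynomial.Module.AEval
import Mathlib.LinearAlgebra.Finsupp.VectorSpace
import Mathlib.RingTheory.Polynomial.Basic

/-! A basis of chains for a nilpotent endomorphism. -/

set_option autoImplicit false
universe u v
open Polynomial Module

namespace Groth.Agent.Weitzenboeck

variable {k : Type u} [Field k]

/-- a basis of the truncated polynomial module made of powers of `X` -/
theorem exists_basis_quot (r : ℕ) :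
    ∃ b : Basis (Fin r) k (k[X] ⧸ k[X] ∙ (X ^ r : k[X])),
      ∀ j : Fin r, b j = Submodule.Quotient.mk (X ^ (j : ℕ) : k[X]) := by
  have hg : (X ^ r : k[X]).Monic := monic_X_pow r
  have hd : (X ^ r : k[X]).natDegree = r := natDegree_X_pow r
  let e : AdjoinRoot (X ^ r : k[X]) ≃ₗ[k] k[X] ⧸ k[X] ∙ (X ^ r : k[X]) :=
    { toFun := fun x => x
      invFun := fun x => x
      map_add' := fun _ _ => rfl
      map_smul' := fun c x => by
        obtain ⟨p, rfl⟩ := AdjoinRoot.mk_surjective x
        rw [RingHom.id_apply, AdjoinRoot.smul_mk]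
        rfl
      left_inv := fun _ => rfl
      right_inv := fun _ => rfl }
  refine ⟨((AdjoinRoot.powerBasisAux' hg).reindex (finCongr hd)).map e, fun j => ?_⟩
  rw [Basis.map_apply, Basis.reindex_apply]
  have h := (AdjoinRoot.powerBasis' hg).basis_eq_pow ((finCongr hd).symm j)
  rw [show AdjoinRoot.powerBasisAux' hg ((finCongr hd).symm j) = (AdjoinRoot.root (X ^ r : k[X])) ^ (j : ℕ) from h]
  show _ = AdjoinRoot.mk (X ^ r : k[X]) (X ^ (j : ℕ))
  exact ((map_pow (AdjoinRoot.mk (X ^ r : k[X])) X j).trans (by rw [AdjoinRoot.mk_X]; rfl)).symm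

theorem exists_chain_basis {V : Type v} [AddCommGroup V] [Module k V] [FiniteDimensional k V]
    (e : Module.End k V) (he : IsNilpotent e) :
    ∃ (d : ℕ) (r : Fin d → ℕ) (b : Basis (Σ i, Fin (r i)) k V), ∀ (i : Fin d) (j : Fin (r i)),
      e (b ⟨i, j⟩) = if h : (j : ℕ) + 1 < r i then b ⟨i, ⟨j + 1, h⟩⟩ else 0 := by
  classical
  obtain ⟨N, hN⟩ := he
  let M := AEval' e
  have htor : Module.IsTorsion' M (Submonoid.powers (X : k[X])) := fun {m} => by
    refine ⟨⟨X ^ N, N, rfl⟩, ?_⟩
    obtain ⟨v, rfl⟩ := (AEval'.of e).surjective m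
    show (X ^ N : k[X]) • AEval'.of e v = 0
    rw [AEval.X_pow_smul_of, hN, zero_smul, map_zero]
  obtain ⟨d, r, ⟨φ⟩⟩ := Module.torsion_by_prime_power_decomposition (p := (X : k[X])) Polynomial.irreducible_X htor
  choose B hB using fun i => exists_basis_quot (k := k) (r i)
  let φk : V ≃ₗ[k] Π₀ i, (k[X] ⧸ k[X] ∙ (X ^ r i : k[X])) := (AEval'.of e).trans (φ.restrictScalars k)
  let b := (DFinsupp.basis B).map φk.symm
  refine ⟨d, r, b, fun i j => ?_⟩
  have hb : ∀ j : Fin (r i), φk (b ⟨i, j⟩) = DFinsupp.single i (Submodule.Quotient.mk (X ^ (j : ℕ) : k[X])) := fun j => by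
    simp only [b, Basis.map_apply, LinearEquiv.apply_symm_apply]
    rw [← hB]
    apply (DFinsupp.basis B).repr.injective
    rw [Basis.repr_self]
    simp [DFinsupp.basis, Equiv.eq_symm_apply, sigmaFinsuppEquivDFinsupp_single]
  have hX : ∀ v, φk (e v) = (X : k[X]) • φk v := fun v => by
    show φ (AEval'.of e (e v)) = (X : k[X]) • φ (AEval'.of e v)
    rw [← map_smul, AEval.X_smul_of]
    rfl
  apply φk.injective
  rw [hX, hb, ← DFinsupp.single_smul, ← Submodule.Quotient.mk_smul, smul_eq_mul, ← pow_succ']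
  split_ifs with h
  · rw [hb]
  · rw [map_zero, show (j : ℕ) + 1 = r i by omega,
      (Submodule.Quotient.mk_eq_zero _).2 (Submodule.mem_span_singleton_self _), DFinsupp.single_zero]

end Groth.Agent.Weitzenboeck
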