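import Groth.Agent.Weitzenboeck.Invariants
import Mathlib.LinearAlgebra.Matrix.Notation
import Mathlib.Data.Matrix.Block

/-! Roberts' transfer: the kernel of the raising derivation is the image of `sl₂`-invariants. -/

set_option autoImplicit false
universe u
open Module MvPolynomial Matrix

namespace Groth.Agent.Weitzenboeck

variable {k : Type u} [Field k] {n : ℕ}

/-- the triple on the variables with two more variables `x, y` (the standard representation) -/
def MatTriple.big (t : MatTriple (Fin n) k) : MatTriple (Fin n ⊕ Fin 2) k where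
  e := fromBlocks t.e 0 0 !![0, 0; 1, 0]
  h := fromBlocks t.h 0 0 !![-1, 0; 0, 1]
  f := fromBlocks t.f 0 0 !![0, 1; 0, 0]
  ef := by
    rw [fromBlocks_multiply, fromBlocks_multiply, ← t.ef]
    simp [fromBlocks_neg, sub_eq_add_neg, fromBlocks_add, ← Matrix.ext_iff, Fin.forall_fin_two]
  he := by
    rw [fromBlocks_multiply, fromBlocks_multiply, fromBlocks_smul, ← t.he]
    simp [fromBlocks_neg, sub_eq_add_neg, fromBlocks_add, ← Matrix.ext_iff, Fin.forall_fin_two]
    norm_num
  hf := by
    rw [fromBlocks_multiply, fromBlocks_multiply, fromBlocks_smul,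
      show t.f = t.f from rfl, fromBlocks_neg, ← t.hf]
    simp [fromBlocks_neg, sub_eq_add_neg, fromBlocks_add, ← Matrix.ext_iff, Fin.forall_fin_two]
    norm_num

theorem lin_fromBlocks_rename (A : Matrix (Fin n) (Fin n) k) (B : Matrix (Fin 2) (Fin 2) k)
    (p : MvPolynomial (Fin n) k) :
    lin (fromBlocks A 0 0 B) (rename Sum.inl p) = rename Sum.inl (lin A p) := by
  induction p using MvPolynomial.induction_on with
  | C r => simp
  | add p q hp hq => simp [hp, hq]
  | mul_X p i hp =>
    rw [map_mul, rename_X, Derivation.leibniz, Derivation.leibniz, hp, lin_X, lin_X]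
    simp [Fintype.sum_sum_type, map_sum, MvPolynomial.smul_eq_C_mul]

/-- the specialisation `x ↦ 1`, `y ↦ 0` -/
noncomputable def spec : MvPolynomial (Fin n ⊕ Fin 2) k →ₐ[k] MvPolynomial (Fin n) k :=
  aeval (Sum.elim X ![1, 0])

theorem spec_rename (p : MvPolynomial (Fin n) k) : spec (rename Sum.inl p) = p := by
  rw [spec, aeval_rename, Sum.elim_comp_inl, aeval_X_left_apply]

theorem spec_lin (t : MatTriple (Fin n) k) (p : MvPolynomial (Fin n ⊕ Fin 2) k) :
    lin t.e (spec p) = spec (lin t.big.e p) := by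
  induction p using MvPolynomial.induction_on with
  | C r => simp
  | add p q hp hq => simp [hp, hq]
  | mul_X p i hp =>
    have hX : lin t.e (spec (X i)) = spec (lin t.big.e (X i)) := by
      rcases i with i | i
      · simp [spec, lin_X, MatTriple.big, Fintype.sum_sum_type, map_sum]
      · fin_cases i <;> simp [spec, lin_X, MatTriple.big, Fintype.sum_sum_type, map_sum]
    rw [map_mul, Derivation.leibniz, Derivation.leibniz, map_add, smul_eq_mul, smul_eq_mul, smul_eq_mul,
      smul_eq_mul, map_mul, map_mul, hX, hp]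

variable [CharZero k] [IsAlgClosed k]

/-- a weight vector killed by `e` of degree `d` lifts to an invariant -/
theorem exists_invariant_lift (t : MatTriple (Fin n) k) {d : ℕ} {a : MvPolynomial (Fin n) k} {μ : k}
    (had : a ∈ homogeneousSubmodule (Fin n) k d) (hE : lin t.e a = 0) (hH : lin t.h a = μ • a) :
    ∃ u ∈ t.big.inv, spec u = a := by
  classical
  rcases eq_or_ne a 0 with rfl | ha
  · exact ⟨0, zero_mem _, map_zero _⟩
  let W := homogeneousSubmodule (Fin n) k d
  have : FiniteDimensional k W := Module.Finite.iff_fg.2 (homogeneousSubmodule_fg _ k d)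
  have sE : ∀ x ∈ W, (lin t.e).toLinearMap x ∈ W := fun x hx => lin_homogeneous t.e hx
  have sH : ∀ x ∈ W, (lin t.h).toLinearMap x ∈ W := fun x hx => lin_homogeneous t.h hx
  have sF : ∀ x ∈ W, (lin t.f).toLinearMap x ∈ W := fun x hx => lin_homogeneous t.f hx
  have hT := t.isTriple.restrict sE sH sF
  have hv : (⟨a, had⟩ : W) ≠ 0 := fun h => ha (congrArg Subtype.val h)
  have hvE : (lin t.e).toLinearMap.restrict sE ⟨a, had⟩ = 0 := Subtype.ext hE
  have hvH : (lin t.h).toLinearMap.restrict sH ⟨a, had⟩ = μ • ⟨a, had⟩ := Subtype.ext hH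
  obtain ⟨m, rfl, hm⟩ := hT.exists_nat_weight hv hvE hvH
  let T : ℕ → MvPolynomial (Fin n) k := fun j => ((lin t.f).toLinearMap.restrict sF ^ j) ⟨a, had⟩
  have hTf : ∀ j, lin t.f (T j) = T (j + 1) := fun j => by
    show _ = ((((lin t.f).toLinearMap.restrict sF) ^ (j + 1)) ⟨a, had⟩ : MvPolynomial (Fin n) k)
    rw [pow_succ', Module.End.mul_apply]
    rfl
  have hTe : ∀ j : ℕ, lin t.e (T (j + 1)) = ((j + 1 : k) * ((m : k) - j)) • T j := fun j =>
    congrArg Subtype.val (hT.f_chain hvE hvH j).2
  have hT0 : T 0 = a := rfl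
  have hTm : T (m + 1) = 0 := congrArg Subtype.val hm
  let x : MvPolynomial (Fin n ⊕ Fin 2) k := X (Sum.inr 0)
  let y : MvPolynomial (Fin n ⊕ Fin 2) k := X (Sum.inr 1)
  have hex : lin t.big.e x = y := by simp [x, y, lin_X, MatTriple.big, Fintype.sum_sum_type]
  have hey : lin t.big.e y = 0 := by simp [y, lin_X, MatTriple.big, Fintype.sum_sum_type]
  have hfx : lin t.big.f x = 0 := by simp [x, lin_X, MatTriple.big, Fintype.sum_sum_type]
  have hfy : lin t.big.f y = x := by simp [x, y, lin_X, MatTriple.big, Fintype.sum_sum_type]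
  have heT : ∀ p, lin t.big.e (rename Sum.inl p) = rename Sum.inl (lin t.e p) :=
    fun p => lin_fromBlocks_rename _ _ p
  have hfT : ∀ p, lin t.big.f (rename Sum.inl p) = rename Sum.inl (lin t.f p) :=
    fun p => lin_fromBlocks_rename _ _ p
  let c : ℕ → k := fun j => (-1) ^ j / (j.factorial : k)
  have hc : ∀ j : ℕ, c (j + 1) * (j + 1 : k) = -c j := fun j => by
    simp only [c, Nat.factorial_succ, Nat.cast_mul, Nat.cast_add, Nat.cast_one, pow_succ]
    field_simp [Nat.cast_ne_zero.2 j.factorial_ne_zero]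
  let M : ℕ → MvPolynomial (Fin n ⊕ Fin 2) k := fun j => x ^ (m - j) * y ^ j
  let term : ℕ → MvPolynomial (Fin n ⊕ Fin 2) k := fun j => C (c j) * (rename Sum.inl (T j) * M j)
  let u := ∑ j ∈ Finset.range (m + 1), term j
  have hCsmul : ∀ (r : k) (p : MvPolynomial (Fin n) k), rename (Sum.inl (β := Fin 2)) (r • p) = C r * rename Sum.inl p :=
    fun r p => by rw [MvPolynomial.smul_eq_C_mul, map_mul, rename_C]
  let g : ℕ → MvPolynomial (Fin n ⊕ Fin 2) k
    | 0 => 0
    | j + 1 => C (c (j + 1) * (j + 1 : k) * ((m : k) - j)) * (rename Sum.inl (T j) * M (j + 1))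
  have hEterm : ∀ j ≤ m, lin t.big.e (term j) = g j - g (j + 1) := fun j hj => by
    have h1 : lin t.big.e (M j) = C (((m - j : ℕ) : k)) * M (j + 1) := by
      rcases eq_or_lt_of_le hj with rfl | hlt
      · simp [M, Derivation.leibniz_pow, hey]
      · simp only [M, Derivation.leibniz, Derivation.leibniz_pow, hex, hey, smul_zero, zero_add, smul_eq_mul,
          nsmul_eq_mul, mul_zero, map_natCast]
        rw [show m - j - 1 = m - (j + 1) by omega, pow_succ]
        ring
    have h2 : C (c j) * (rename Sum.inl (T j) * lin t.big.e (M j)) = -g (j + 1) := by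
      show _ = -(C (c (j + 1) * (j + 1 : k) * ((m : k) - j)) * _)
      rw [h1, hc, Nat.cast_sub hj, map_mul, map_neg]
      ring
    simp only [term, Derivation.leibniz, derivation_C, smul_zero, add_zero, mul_zero, smul_eq_mul, mul_add, heT]
    rw [h2]
    rcases j with _ | j
    · simp [g, hT0, hE]
    · rw [hTe, hCsmul]
      show _ = C (c (j + 1) * (j + 1 : k) * ((m : k) - j)) * (rename Sum.inl (T j) * M (j + 1)) - g (j + 1 + 1)
      simp only [map_mul, map_sub, map_add, map_one]
      ring
  let g' : ℕ → MvPolynomial (Fin n ⊕ Fin 2) k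
    | 0 => 0
    | j + 1 => C (c j) * (rename Sum.inl (T (j + 1)) * M j)
  have hFterm : ∀ j ≤ m, lin t.big.f (term j) = g' (j + 1) - g' j := fun j hj => by
    simp only [term, Derivation.leibniz, derivation_C, smul_zero, add_zero, mul_zero, smul_eq_mul, mul_add, hfT, hTf]
    rcases j with _ | j
    · have h0 : lin t.big.f (M 0) = 0 := by simp [M, Derivation.leibniz_pow, hfx]
      show _ = C (c 0) * (_ * M 0) - 0
      rw [h0]
      ring
    · have h1 : lin t.big.f (M (j + 1)) = C ((j + 1 : ℕ) : k) * M j := by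
        simp only [M, Derivation.leibniz, Derivation.leibniz_pow, hfx, hfy, smul_zero, add_zero, smul_eq_mul,
          nsmul_eq_mul, mul_zero, map_natCast]
        rw [show m - j = (m - (j + 1)) + 1 by omega, pow_succ]
        simp only [Nat.add_sub_cancel]
        ring
      show _ = C (c (j + 1)) * (_ * M (j + 1)) - C (c j) * (_ * M j)
      rw [h1, sub_eq_add_neg, ← neg_mul, ← map_neg, ← hc, map_mul]
      simp only [Nat.cast_add, Nat.cast_one]
      ring
  have hEu : lin t.big.e u = 0 := by
    rw [map_sum, Finset.sum_congr rfl fun j hj => hEterm j (by simpa [Nat.lt_succ_iff] using hj), Finset.sum_range_sub']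
    show (0 : MvPolynomial (Fin n ⊕ Fin 2) k) - C (c (m + 1) * (m + 1 : k) * ((m : k) - m)) * _ = 0
    simp
  have hFu : lin t.big.f u = 0 := by
    rw [map_sum, Finset.sum_congr rfl fun j hj => hFterm j (by simpa [Nat.lt_succ_iff] using hj), Finset.sum_range_sub]
    show C (c m) * (rename Sum.inl (T (m + 1)) * M m) - 0 = 0
    simp [hTm]
  refine ⟨u, ⟨hEu, ?_, hFu⟩, ?_⟩
  · have h := t.big.isTriple.ef u
    change lin t.big.e (lin t.big.f u) - lin t.big.f (lin t.big.e u) = lin t.big.h u at h
    rw [← h, hEu, hFu, map_zero, map_zero, sub_zero]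
  · rw [map_sum, Finset.sum_range_succ']
    simp [term, M, x, y, spec, c, hT0, aeval_rename, Sum.elim_comp_inl, aeval_X_left_apply]

/-- the kernel of `e` is finitely generated when the linear forms are spanned by weight vectors -/
theorem ker_fg (t : MatTriple (Fin n) k)
    (hw : ∀ j, X j ∈ Submodule.span k {p : MvPolynomial (Fin n) k | ∃ μ : k, lin t.h p = μ • p}) :
    ∃ S : Subalgebra k (MvPolynomial (Fin n) k), S.FG ∧ ∀ f, f ∈ S ↔ lin t.e f = 0 := by
  classical
  refine ⟨t.big.inv.map spec, Subalgebra.FG.map _ t.big.inv_fg, fun a => ⟨?_, fun ha => ?_⟩⟩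
  · rintro ⟨u, hu, rfl⟩
    exact (spec_lin t u).trans (by rw [hu.1, map_zero])
  let H := (lin t.h).toLinearMap
  let Wt : Set (MvPolynomial (Fin n) k) := {p | ∃ μ : k, lin t.h p = μ • p}
  have hmul : ∀ p ∈ Submodule.span k Wt, ∀ q ∈ Submodule.span k Wt, p * q ∈ Submodule.span k Wt := by
    intro p hp q hq
    induction hp, hq using Submodule.span_induction₂ with
    | mem_mem p q hp hq =>
      obtain ⟨μ, hμ⟩ := hp
      obtain ⟨ν, hν⟩ := hq
      refine Submodule.subset_span ⟨μ + ν, ?_⟩
      rw [Derivation.leibniz, hμ, hν, smul_eq_mul, smul_eq_mul, mul_smul_comm, mul_smul_comm, mul_comm q p, ← add_smul, add_comm]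
    | zero_left y _ => simp
    | zero_right x _ => simp
    | add_left x y z _ _ _ hx hy => rw [add_mul]; exact add_mem hx hy
    | add_right x y z _ _ _ hx hy => rw [mul_add]; exact add_mem hx hy
    | smul_left r x y _ _ hx => rw [smul_mul_assoc]; exact Submodule.smul_mem _ r hx
    | smul_right r x y _ _ hx => rw [mul_smul_comm]; exact Submodule.smul_mem _ r hx
  have hC : ∀ r, C r ∈ Submodule.span k Wt := fun r => Submodule.subset_span ⟨0, by simp⟩
  have hall : ∀ p, p ∈ Submodule.span k Wt := fun p => by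
    induction p using MvPolynomial.induction_on with
    | C r => exact hC r
    | add p q hp hq => exact add_mem hp hq
    | mul_X p i hp => exact hmul p hp _ (hw i)
  have hwt : a ∈ ⨆ μ : k, End.eigenspace H μ := by
    refine Submodule.span_le.2 ?_ (hall a)
    rintro p ⟨μ, hμ⟩
    exact Submodule.mem_iSup_of_mem μ (End.mem_eigenspace_iff.2 hμ)
  obtain ⟨g, hg, rfl⟩ := (Submodule.mem_iSup_iff_exists_finsupp _ _).1 hwt
  have hstab : ∀ p, lin t.e p = 0 → lin t.e (H p) = 0 := fun p hp => by
    have := t.isTriple.he p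
    change lin t.h (lin t.e p) - lin t.e (lin t.h p) = (2 : k) • lin t.e p at this
    rw [hp, map_zero, zero_sub, smul_zero, neg_eq_zero] at this
    exact this
  have key : ∀ (s : Finset k) (g : k → MvPolynomial (Fin n) k), (∀ μ, H (g μ) = μ • g μ) →
      lin t.e (∑ μ ∈ s, g μ) = 0 → ∀ μ ∈ s, lin t.e (g μ) = 0 := by
    intro s
    induction s using Finset.induction_on with
    | empty => simp
    | insert μ₀ s hμ₀ ih =>
      intro g hg h0
      have h1 : lin t.e (∑ μ ∈ s, (μ - μ₀) • g μ) = 0 := by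
        have h2 : ∑ μ ∈ s, (μ - μ₀) • g μ = H (∑ μ ∈ insert μ₀ s, g μ) - μ₀ • ∑ μ ∈ insert μ₀ s, g μ := by
          simp [Finset.sum_insert hμ₀, sub_smul, Finset.sum_sub_distrib, map_sum, hg, Finset.smul_sum]
        rw [h2, map_sub, Derivation.map_smul, hstab _ h0, h0, smul_zero, sub_zero]
      have h3 : ∀ μ ∈ s, lin t.e (g μ) = 0 := fun μ hμ => by
        have := ih (fun μ => (μ - μ₀) • g μ) (fun μ => by rw [map_smul, hg, smul_comm]) h1 μ hμ
        rw [Derivation.map_smul] at this
        exact (smul_eq_zero.1 this).resolve_left (sub_ne_zero.2 fun h => hμ₀ (h ▸ hμ))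
      intro μ hμ
      rcases Finset.mem_insert.1 hμ with rfl | hμ
      · rw [Finset.sum_insert hμ₀, map_add, map_sum, Finset.sum_eq_zero h3, add_zero] at h0
        exact h0
      · exact h3 μ hμ
  have hgH : ∀ μ, H (g μ) = μ • g μ := fun μ => End.mem_eigenspace_iff.1 (hg μ)
  refine Subalgebra.sum_mem _ fun μ hμ => ?_
  rw [← sum_homogeneousComponent (g μ)]
  refine Subalgebra.sum_mem _ fun d _ => ?_
  obtain ⟨u, hu, hua⟩ := exists_invariant_lift t (μ := μ) (homogeneousComponent_mem d (g μ))
    (by rw [← lin_comm_homogeneousComponent, key _ _ hgH ha μ hμ, map_zero])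
    (by rw [← lin_comm_homogeneousComponent, ← map_smul]; exact congrArg _ (hgH μ))
  exact ⟨u, hu, hua⟩

end Groth.Agent.Weitzenboeck
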