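import Groth.Agent.Weitzenboeck.Triple
import Mathlib.Algebra.MvPolynomial.Derivation
import Mathlib.RingTheory.Derivation.Lie
import Mathlib.RingTheory.MvPolynomial.Homogeneous
import Mathlib.RingTheory.Polynomial.Basic

/-! Invariants of a linear action of `sl₂` on a polynomial ring are finitely generated. -/

set_option autoImplicit false
universe u
open Module MvPolynomial

namespace Groth.Agent.Weitzenboeck

variable {k : Type u} [Field k] {σ : Type} [Fintype σ]

/-- the derivation of the polynomial ring given by a matrix acting on linear forms -/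
noncomputable def lin (M : Matrix σ σ k) : Derivation k (MvPolynomial σ k) (MvPolynomial σ k) :=
  mkDerivation k fun j => ∑ i, M i j • X i

theorem lin_X (M : Matrix σ σ k) (j : σ) : lin M (X j) = ∑ i, M i j • X i := mkDerivation_X _ _ _

theorem lin_bracket (A B : Matrix σ σ k) (p : MvPolynomial σ k) :
    lin A (lin B p) - lin B (lin A p) = lin (A * B - B * A) p := by
  have : ⁅lin A, lin B⁆ = lin (A * B - B * A) := by
    refine derivation_ext fun j => ?_
    simp only [Derivation.commutator_apply, lin_X, map_sum, Derivation.map_smul]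
    simp only [Matrix.sub_apply, Matrix.mul_apply, sub_smul, Finset.sum_sub_distrib, Finset.smul_sum,
      Finset.sum_smul, smul_smul]
    congr 1 <;> rw [Finset.sum_comm] <;>
      exact Finset.sum_congr rfl fun i _ => Finset.sum_congr rfl fun l _ => by rw [mul_comm]
  exact (Derivation.commutator_apply _).symm.trans (congr(($this) p))

theorem lin_homogeneous (M : Matrix σ σ k) {d : ℕ} {p : MvPolynomial σ k}
    (hp : p ∈ homogeneousSubmodule σ k d) : lin M p ∈ homogeneousSubmodule σ k d := by
  classical
  rw [p.as_sum, map_sum]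
  refine Submodule.sum_mem _ fun s hs => ?_
  rw [lin, mkDerivation_monomial]
  refine Submodule.smul_mem _ _ (Submodule.sum_mem _ fun i hi => ?_)
  have hd : s.degree = d := by
    have h := hp (MvPolynomial.mem_support_iff.1 hs)
    rw [Finsupp.degree_eq_weight_one]; exact h
  have h1 : 1 ≤ d := by
    have h2 := Finsupp.le_degree i s
    have h3 : s i ≠ 0 := Finsupp.mem_support_iff.1 hi
    omega
  show (monomial (s - Finsupp.single i 1) ((s i : ℕ) : k) * ∑ l, M l i • X l).IsHomogeneous d
  rw [show d = (d - 1) + 1 by omega]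
  refine (isHomogeneous_monomial _ ?_).mul (IsHomogeneous.sum _ _ _ fun l _ => ?_)
  · have h3 : s i ≠ 0 := Finsupp.mem_support_iff.1 hi
    have h5 := congrArg Finsupp.degree
      (tsub_add_cancel_of_le (Finsupp.single_le_iff.2 (Nat.one_le_iff_ne_zero.2 h3) : Finsupp.single i 1 ≤ s))
    rw [map_add, Finsupp.degree_single] at h5
    omega
  · exact (homogeneousSubmodule σ k 1).smul_mem _ (isHomogeneous_X k l)

theorem lin_comm_homogeneousComponent (M : Matrix σ σ k) (d : ℕ) (p : MvPolynomial σ k) :
    homogeneousComponent d (lin M p) = lin M (homogeneousComponent d p) := by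
  conv_lhs => rw [← sum_homogeneousComponent p, map_sum, map_sum]
  have h : ∀ i, homogeneousComponent d (lin M (homogeneousComponent i p)) =
      if d = i then lin M (homogeneousComponent i p) else 0 := fun i =>
    homogeneousComponent_of_mem (lin_homogeneous M (homogeneousComponent_mem i p))
  simp only [h, Finset.sum_ite_eq, Finset.mem_range]
  split
  · rfl
  · rw [homogeneousComponent_eq_zero d p (by omega), map_zero]

theorem homogeneousComponent_mul_of_mem {x : MvPolynomial σ k} {e : ℕ}
    (hx : x ∈ homogeneousSubmodule σ k e) (p : MvPolynomial σ k) (d : ℕ) :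
    homogeneousComponent d (p * x) = if e ≤ d then homogeneousComponent (d - e) p * x else 0 := by
  conv_lhs => rw [← sum_homogeneousComponent p, Finset.sum_mul, map_sum]
  have h : ∀ i, homogeneousComponent d (homogeneousComponent i p * x) =
      if d = i + e then homogeneousComponent i p * x else 0 := fun i =>
    homogeneousComponent_of_mem ((homogeneousComponent_isHomogeneous i p).mul hx)
  simp only [h]
  split_ifs with hle
  · have h2 : ∀ i, (d = i + e ↔ d - e = i) := fun i => by omega
    simp only [h2, Finset.sum_ite_eq, Finset.mem_range]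
    split
    · rfl
    · rw [homogeneousComponent_eq_zero _ p (by omega), zero_mul]
  · exact Finset.sum_eq_zero fun i _ => if_neg (by omega)

/-- three matrices forming an `sl₂`-triple -/
structure MatTriple (σ : Type) [Fintype σ] (k : Type u) [Field k] where
  e : Matrix σ σ k
  h : Matrix σ σ k
  f : Matrix σ σ k
  ef : e * f - f * e = h
  he : h * e - e * h = (2 : k) • e
  hf : h * f - f * h = -((2 : k) • f)

theorem lin_smul (c : k) (M : Matrix σ σ k) (p : MvPolynomial σ k) : lin (c • M) p = c • lin M p := by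
  have : lin (c • M) = c • lin M := derivation_ext fun j => by
    simp [lin_X, Finset.smul_sum, smul_smul]
  rw [this]; rfl

theorem lin_neg (M : Matrix σ σ k) (p : MvPolynomial σ k) : lin (-M) p = -lin M p := by
  have h : -M = (-1 : k) • M := by simp
  rw [h, lin_smul, neg_one_smul]

variable (t : MatTriple σ k)

theorem MatTriple.isTriple :
    IsTriple (lin t.e).toLinearMap (lin t.h).toLinearMap (lin t.f).toLinearMap where
  ef p := (lin_bracket t.e t.f p).trans (by rw [t.ef]; rfl)
  he p := (lin_bracket t.h t.e p).trans (by rw [t.he, lin_smul]; rfl)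
  hf p := (lin_bracket t.h t.f p).trans (by rw [t.hf, lin_neg, lin_smul]; rfl)

/-- the invariants -/
noncomputable def MatTriple.inv : Subalgebra k (MvPolynomial σ k) where
  carrier := {p | lin t.e p = 0 ∧ lin t.h p = 0 ∧ lin t.f p = 0}
  mul_mem' {a b} ha hb := by
    obtain ⟨a1, a2, a3⟩ := ha
    obtain ⟨b1, b2, b3⟩ := hb
    simp [Derivation.leibniz, a1, a2, a3, b1, b2, b3]
  add_mem' {a b} ha hb := by
    obtain ⟨a1, a2, a3⟩ := ha
    obtain ⟨b1, b2, b3⟩ := hb
    simp [a1, a2, a3, b1, b2, b3]
  algebraMap_mem' c := by simp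

variable [CharZero k] [IsAlgClosed k]

theorem MatTriple.inv_fg : t.inv.FG := by
  classical
  let S : Set (MvPolynomial σ k) := {x | ∃ e, 0 < e ∧ x ∈ homogeneousSubmodule σ k e ∧ x ∈ t.inv}
  obtain ⟨s, hsS, hspan⟩ := (Submodule.fg_span_iff_fg_span_finset_subset (R := MvPolynomial σ k) S).1 (IsNoetherian.noetherian _)
  choose deg hdeg hhom hinv using fun x : s => hsS x.2
  refine ⟨s, le_antisymm (Algebra.adjoin_le fun x hx => hinv ⟨x, hx⟩) ?_⟩
  suffices key : ∀ d u, u ∈ homogeneousSubmodule σ k d → u ∈ t.inv → u ∈ Algebra.adjoin k (s : Set (MvPolynomial σ k)) by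
    intro u hu
    rw [← sum_homogeneousComponent u]
    refine Subalgebra.sum_mem _ fun i _ => key i _ (homogeneousComponent_mem i u) ?_
    refine ⟨?_, ?_, ?_⟩ <;> rw [← lin_comm_homogeneousComponent]
    · rw [hu.1, map_zero]
    · rw [hu.2.1, map_zero]
    · rw [hu.2.2, map_zero]
  intro d
  induction d using Nat.strong_induction_on with
  | _ d ih =>
  intro u hu huinv
  rcases Nat.eq_zero_or_pos d with hd0 | hd
  · subst hd0
    have h := homogeneousComponent_of_mem (m := 0) hu
    rw [if_pos rfl, homogeneousComponent_zero] at h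
    rw [← h]
    exact Subalgebra.algebraMap_mem _ _
  have hu' : u ∈ Submodule.span (MvPolynomial σ k) (s : Set (MvPolynomial σ k)) :=
    hspan ▸ Submodule.subset_span ⟨d, hd, hu, huinv⟩
  obtain ⟨c, -, hc⟩ := Submodule.mem_span_finset.1 hu'
  have hsum : u = ∑ x ∈ s.attach, if deg x ≤ d then homogeneousComponent (d - deg x) (c x) * x.1 else 0 := by
    conv_lhs => rw [← (homogeneousComponent_of_mem (m := d) hu).trans (if_pos rfl), ← hc, map_sum, ← Finset.sum_attach]
    refine Finset.sum_congr rfl fun x _ => ?_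
    rw [smul_eq_mul, homogeneousComponent_mul_of_mem (hhom x)]
  have hE : ∀ i, ∀ x ∈ homogeneousSubmodule σ k i, (lin t.e).toLinearMap x ∈ homogeneousSubmodule σ k i :=
    fun i x hx => lin_homogeneous t.e hx
  have hH : ∀ i, ∀ x ∈ homogeneousSubmodule σ k i, (lin t.h).toLinearMap x ∈ homogeneousSubmodule σ k i :=
    fun i x hx => lin_homogeneous t.h hx
  have hF : ∀ i, ∀ x ∈ homogeneousSubmodule σ k i, (lin t.f).toLinearMap x ∈ homogeneousSubmodule σ k i :=
    fun i x hx => lin_homogeneous t.f hx
  have hfin : ∀ i, FiniteDimensional k (homogeneousSubmodule σ k i) := fun i =>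
    Module.Finite.iff_fg.2 (homogeneousSubmodule_fg σ k i)
  let C := cas (lin t.e).toLinearMap (lin t.h).toLinearMap (lin t.f).toLinearMap
  let Cd : ∀ i, Module.End k (homogeneousSubmodule σ k i) := fun i =>
    cas ((lin t.e).toLinearMap.restrict (hE i)) ((lin t.h).toLinearMap.restrict (hH i))
      ((lin t.f).toLinearMap.restrict (hF i))
  have hC : ∀ i N (x : homogeneousSubmodule σ k i), ((Cd i ^ N) x : MvPolynomial σ k) = (C ^ N) x := fun i N => by
    induction N with
    | zero => intro x; rfl
    | succ N ih' =>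
      intro x
      rw [pow_succ', pow_succ', Module.End.mul_apply, Module.End.mul_apply, ← ih']
      rfl
  have hmul : ∀ (x : MvPolynomial σ k), x ∈ t.inv → ∀ N p, (C ^ N) (x * p) = x * (C ^ N) p := fun x hx N => by
    have h1 : ∀ p, C (x * p) = x * C p := fun p => by
      obtain ⟨x1, x2, x3⟩ := hx
      have hap : ∀ (D : Derivation k (MvPolynomial σ k) (MvPolynomial σ k)) q, D.toLinearMap q = D q :=
        fun _ _ => rfl
      simp only [C, cas_apply, hap, Derivation.leibniz, x1, x2, x3, smul_eq_mul, mul_zero, add_zero, map_add,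
        Derivation.map_smul]
      simp only [mul_add, mul_smul_comm]
    induction N with
    | zero => intro p; rfl
    | succ N ih' => intro p; rw [pow_succ', Module.End.mul_apply, Module.End.mul_apply, ih', h1]
  -- a common Fitting exponent
  have hev : ∀ i, ∃ N₀, ∀ N ≥ N₀, IsCompl (LinearMap.ker (Cd i ^ N)) (LinearMap.range (Cd i ^ N)) := fun i =>
    Filter.eventually_atTop.1 (Cd i).eventually_isCompl_ker_pow_range_pow
  choose N₀ hN₀ using hev
  let N := (Finset.range (d + 1)).sup N₀ + 1
  have hN : ∀ i ≤ d, IsCompl (LinearMap.ker (Cd i ^ N)) (LinearMap.range (Cd i ^ N)) := fun i hi =>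
    hN₀ i N (le_trans (Finset.le_sup (f := N₀) (Finset.mem_range.2 (Nat.lt_succ_of_le hi))) (Nat.le_succ _))
  have hdec : ∀ x : s, deg x ≤ d → ∃ r b : MvPolynomial σ k, r ∈ homogeneousSubmodule σ k (d - deg x) ∧
      b ∈ homogeneousSubmodule σ k (d - deg x) ∧ r ∈ t.inv ∧
      homogeneousComponent (d - deg x) (c x) = r + (C ^ N) b := fun x hx => by
    have := hfin (d - deg x)
    obtain ⟨r, hr, y, hy, hry⟩ := Submodule.mem_sup.1
      ((hN (d - deg x) (by omega)).sup_eq_top.ge
        (Submodule.mem_top : (⟨_, homogeneousComponent_mem (d - deg x) (c x)⟩ : homogeneousSubmodule σ k (d - deg x)) ∈ ⊤))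
    obtain ⟨b, rfl⟩ := hy
    obtain ⟨e1, e2, e3⟩ := (t.isTriple.restrict (hE _) (hH _) (hF _)).invariant_of_cas_pow N hr
    refine ⟨r, b, r.2, b.2, ⟨congrArg Subtype.val e1, congrArg Subtype.val e2, congrArg Subtype.val e3⟩, ?_⟩
    rw [← hC]
    exact (congrArg Subtype.val hry).symm
  choose r b hr hb hrinv hrb using hdec
  let w : MvPolynomial σ k := ∑ x ∈ s.attach, if h : deg x ≤ d then r x h * x.1 else 0
  let z : MvPolynomial σ k := ∑ x ∈ s.attach, if h : deg x ≤ d then b x h * x.1 else 0
  have hwinv : w ∈ t.inv := Subalgebra.sum_mem _ fun x _ => by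
    split
    · exact mul_mem (hrinv _ _) (hinv x)
    · exact zero_mem _
  have hzd : z ∈ homogeneousSubmodule σ k d := Submodule.sum_mem _ fun x _ => by
    split
    next h =>
      have h' := (hb x h).mul (hhom x)
      rwa [Nat.sub_add_cancel h] at h'
    next => exact zero_mem _
  have huw : u - w = (C ^ N) z := by
    rw [hsum, ← Finset.sum_sub_distrib, map_sum]
    refine Finset.sum_congr rfl fun x _ => ?_
    split
    next h => rw [hrb x h, mul_comm (b x h), hmul _ (hinv x)]; ring
    next h => rw [map_zero, sub_zero]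
  have huw0 : u - w = 0 := by
    have := hfin d
    have hd1 : u - w ∈ t.inv := sub_mem huinv hwinv
    have h1 : (⟨u - w, huw ▸ hC d N ⟨z, hzd⟩ ▸ ((Cd d ^ N) ⟨z, hzd⟩).2⟩ : homogeneousSubmodule σ k d) ∈
        LinearMap.ker (Cd d ^ N) ⊓ LinearMap.range (Cd d ^ N) := by
      have hkill : (C ^ N) (u - w) = 0 := by
        show (C ^ ((Finset.range (d + 1)).sup N₀ + 1)) (u - w) = 0
        rw [pow_succ, Module.End.mul_apply,
          cas_eq_zero_of_invariant (E := (lin t.e).toLinearMap) (H := (lin t.h).toLinearMap) (F := (lin t.f).toLinearMap) hd1, map_zero]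
      exact ⟨Subtype.ext ((hC d N _).trans hkill), ⟨z, hzd⟩, Subtype.ext ((hC d N _).trans huw.symm)⟩
    rw [(hN d le_rfl).inf_eq_bot] at h1
    exact congrArg Subtype.val ((Submodule.mem_bot k).1 h1)
  rw [sub_eq_zero.1 huw0]
  refine Subalgebra.sum_mem _ fun x _ => ?_
  split
  next h =>
    refine mul_mem (ih _ ?_ _ (hr x h) (hrinv x h)) (Algebra.subset_adjoin x.2)
    have := hdeg x
    omega
  next => exact zero_mem _

end Groth.Agent.Weitzenboeck
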