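import Mathlib.LinearAlgebra.Eigenspace.Triangularizable
import Mathlib.FieldTheory.IsAlgClosed.Basic
import Mathlib.LinearAlgebra.FiniteDimensional.Lemmas
import Mathlib.RingTheory.Artinian.Module

/-! Elementary representation theory of `sl₂`-triples of endomorphisms in characteristic zero. -/

set_option autoImplicit false
universe u v
open Module

namespace Groth.Agent.Weitzenboeck

variable {k : Type u} [Field k] {V : Type v} [AddCommGroup V] [Module k V]

/-- three endomorphisms satisfying the relations of `sl₂` -/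
structure IsTriple (E H F : Module.End k V) : Prop where
  ef : ∀ v, E (F v) - F (E v) = H v
  he : ∀ v, H (E v) - E (H v) = (2 : k) • E v
  hf : ∀ v, H (F v) - F (H v) = -((2 : k) • F v)

/-- the Casimir operator -/
def cas (E H F : Module.End k V) : Module.End k V :=
  H ∘ₗ H + (2 : k) • H + (4 : k) • (F ∘ₗ E)

variable {E H F : Module.End k V}

theorem cas_apply (v : V) : cas E H F v = H (H v) + (2 : k) • H v + (4 : k) • F (E v) := rfl

theorem IsTriple.ef' (t : IsTriple E H F) (v : V) : E (F v) = F (E v) + H v :=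
  sub_eq_iff_eq_add'.1 (t.ef v)

theorem IsTriple.he' (t : IsTriple E H F) (v : V) : H (E v) = E (H v) + (2 : k) • E v :=
  sub_eq_iff_eq_add'.1 (t.he v)

theorem IsTriple.hf' (t : IsTriple E H F) (v : V) : H (F v) = F (H v) + -((2 : k) • F v) :=
  sub_eq_iff_eq_add'.1 (t.hf v)

theorem IsTriple.cas_comm (t : IsTriple E H F) (v : V) :
    E (cas E H F v) = cas E H F (E v) ∧ H (cas E H F v) = cas E H F (H v) ∧
      F (cas E H F v) = cas E H F (F v) := by
  simp only [cas_apply, map_add, map_smul, map_neg, t.he', t.hf', t.ef', smul_add, smul_neg]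
  refine ⟨?_, ?_, ?_⟩ <;> module

theorem IsTriple.f_chain (t : IsTriple E H F) {v : V} {μ : k} (hE : E v = 0) (hH : H v = μ • v) (j : ℕ) :
    H ((F ^ j) v) = (μ - 2 * j) • (F ^ j) v ∧
      E ((F ^ (j + 1)) v) = ((j + 1 : k) * (μ - j)) • (F ^ j) v := by
  induction j with
  | zero =>
    refine ⟨by simp [hH], ?_⟩
    simp [t.ef', hE, hH]
  | succ j ih =>
    obtain ⟨ih1, ih2⟩ := ih
    have h1 : H ((F ^ (j + 1)) v) = (μ - 2 * ((j + 1 : ℕ) : k)) • (F ^ (j + 1)) v := by
      rw [pow_succ', Module.End.mul_apply, t.hf', ih1, map_smul]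
      push_cast
      module
    refine ⟨h1, ?_⟩
    rw [pow_succ' F (j + 1), Module.End.mul_apply, t.ef', ih2, map_smul, h1, ← Module.End.mul_apply,
      ← pow_succ']
    push_cast
    module

theorem cas_eq_zero_of_invariant {v : V} (h : E v = 0 ∧ H v = 0 ∧ F v = 0) : cas E H F v = 0 := by
  simp [cas_apply, h.1, h.2.1]

/-- restriction to a stable subspace -/
theorem IsTriple.restrict (t : IsTriple E H F) {W : Submodule k V} (hE : ∀ x ∈ W, E x ∈ W)
    (hH : ∀ x ∈ W, H x ∈ W) (hF : ∀ x ∈ W, F x ∈ W) :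
    IsTriple (E.restrict hE) (H.restrict hH) (F.restrict hF) :=
  ⟨fun v => Subtype.ext (t.ef v), fun v => Subtype.ext (t.he v), fun v => Subtype.ext (t.hf v)⟩

variable [CharZero k] [FiniteDimensional k V]

theorem IsTriple.exists_nat_weight (t : IsTriple E H F) {v : V} {μ : k} (hv : v ≠ 0) (hE : E v = 0)
    (hH : H v = μ • v) : ∃ m : ℕ, μ = m ∧ (F ^ (m + 1)) v = 0 := by
  obtain ⟨n, hn⟩ : ∃ n, (F ^ n) v = 0 := by
    by_contra hne
    push Not at hne
    have hi : Function.Injective fun j : ℕ => μ - 2 * (j : k) := fun a b h => by simpa using h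
    have := (End.eigenvectors_linearIndependent' H (fun j : ℕ => μ - 2 * (j : k)) hi (fun j => (F ^ j) v)
      fun j => ⟨End.mem_eigenspace_iff.2 (t.f_chain hE hH j).1, hne j⟩)
    exact Infinite.not_finite (α := ℕ) this.finite
  classical
  have hex : ∃ n, (F ^ n) v = 0 := ⟨n, hn⟩
  have h0 : Nat.find hex ≠ 0 := fun h => hv (by simpa [h] using Nat.find_spec hex)
  obtain ⟨m, hm⟩ := Nat.exists_eq_succ_of_ne_zero h0
  have hspec : (F ^ (m + 1)) v = 0 := by
    have h := Nat.find_spec hex
    rwa [hm] at h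
  refine ⟨m, ?_, hspec⟩
  have h2 := (t.f_chain hE hH m).2
  rw [hspec, map_zero] at h2
  have hmin : (F ^ m) v ≠ 0 := Nat.find_min hex (by rw [hm]; exact Nat.lt_succ_self m)
  have h3 := (smul_eq_zero.1 h2.symm).resolve_right hmin
  exact sub_eq_zero.1 ((mul_eq_zero.1 h3).resolve_left (Nat.cast_add_one_ne_zero m))

variable [IsAlgClosed k]

theorem IsTriple.exists_primitive (t : IsTriple E H F) [Nontrivial V] :
    ∃ (v : V) (μ : k), v ≠ 0 ∧ E v = 0 ∧ H v = μ • v := by
  obtain ⟨μ₀, h₀⟩ := End.exists_eigenvalue H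
  obtain ⟨w, hw⟩ := h₀.exists_hasEigenvector
  have hw1 : H w = μ₀ • w := hw.apply_eq_smul
  have hchain : ∀ j : ℕ, H ((E ^ j) w) = (μ₀ + 2 * j) • (E ^ j) w := fun j => by
    induction j with
    | zero => simp [hw1]
    | succ j ih =>
      rw [pow_succ', Module.End.mul_apply, t.he', ih, map_smul]
      push_cast
      module
  obtain ⟨n, hn⟩ : ∃ n, (E ^ n) w = 0 := by
    by_contra hne
    push Not at hne
    have hi : Function.Injective fun j : ℕ => μ₀ + 2 * (j : k) := fun a b h => by simpa using h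
    have := (End.eigenvectors_linearIndependent' H (fun j : ℕ => μ₀ + 2 * (j : k)) hi (fun j => (E ^ j) w)
      fun j => ⟨End.mem_eigenspace_iff.2 (hchain j), hne j⟩)
    exact Infinite.not_finite (α := ℕ) this.finite
  classical
  have hex : ∃ n, (E ^ n) w = 0 := ⟨n, hn⟩
  have h0 : Nat.find hex ≠ 0 := fun h => hw.2 (by simpa [h] using Nat.find_spec hex)
  obtain ⟨j, hj⟩ := Nat.exists_eq_succ_of_ne_zero h0
  refine ⟨(E ^ j) w, μ₀ + 2 * j, Nat.find_min hex (by rw [hj]; exact Nat.lt_succ_self j), ?_, hchain j⟩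
  rw [← Module.End.mul_apply, ← pow_succ']
  have h := Nat.find_spec hex
  rwa [hj] at h

/-- if the Casimir operator is nilpotent, the representation is trivial -/
theorem trivial_of_cas_nilpotent : ∀ (n : ℕ) {V : Type v} [AddCommGroup V] [Module k V] [FiniteDimensional k V]
    {E H F : Module.End k V}, Module.finrank k V ≤ n → IsTriple E H F → (∀ v, ∃ N, (cas E H F ^ N) v = 0) →
    ∀ v, E v = 0 ∧ H v = 0 ∧ F v = 0 := by
  intro n
  induction n with
  | zero =>
    intro V _ _ _ E H F hn t hc v
    have := Module.finrank_zero_iff.1 (Nat.le_zero.1 hn)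
    exact ⟨Subsingleton.elim _ _, Subsingleton.elim _ _, Subsingleton.elim _ _⟩
  | succ n ih =>
    intro V _ _ _ E H F hn t hc v
    cases subsingleton_or_nontrivial V
    · exact ⟨Subsingleton.elim _ _, Subsingleton.elim _ _, Subsingleton.elim _ _⟩
    obtain ⟨p, μ, hp, hEp, hHp⟩ := t.exists_primitive
    obtain ⟨m, rfl, hm⟩ := t.exists_nat_weight hp hEp hHp
    have hcp : ∀ N, (cas E H F ^ N) p = ((m : k) * m + 2 * m) ^ N • p := fun N => by
      induction N with
      | zero => simp
      | succ N ihN =>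
        rw [pow_succ', Module.End.mul_apply, ihN, map_smul, cas_apply, hEp, map_zero, hHp, map_smul, hHp,
          pow_succ]
        module
    obtain ⟨N, hN⟩ := hc p
    rw [hcp, smul_eq_zero] at hN
    have hm0 : m = 0 := by
      have h' : ((m * m + 2 * m : ℕ) : k) = 0 := by
        push_cast
        exact eq_zero_of_pow_eq_zero (hN.resolve_right hp)
      have := Nat.cast_eq_zero.1 h'
      omega
    subst hm0
    have hFp : F p = 0 := by simpa using hm
    have hHp0 : H p = 0 := by simpa using hHp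
    let L := Submodule.span k {p}
    have hL : ∀ {T : Module.End k V}, T p = 0 → L ≤ L.comap T := fun {T} h => by
      rw [Submodule.span_le]
      rintro x rfl
      show T x ∈ L
      rw [h]; exact zero_mem _
    let E' := L.mapQ L E (hL hEp)
    let H' := L.mapQ L H (hL hHp0)
    let F' := L.mapQ L F (hL hFp)
    have t' : IsTriple E' H' F' := by
      refine ⟨?_, ?_, ?_⟩ <;> intro x <;> obtain ⟨x, rfl⟩ := L.mkQ_surjective x
      · exact congrArg L.mkQ (t.ef x)
      · exact congrArg L.mkQ (t.he x)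
      · exact congrArg L.mkQ (t.hf x)
    have hc' : ∀ x, ∃ N, (cas E' H' F' ^ N) x = 0 := fun x => by
      obtain ⟨x, rfl⟩ := L.mkQ_surjective x
      obtain ⟨N, hN⟩ := hc x
      refine ⟨N, ?_⟩
      have key : ∀ N y, (cas E' H' F' ^ N) (L.mkQ y) = L.mkQ ((cas E H F ^ N) y) := fun N => by
        induction N with
        | zero => intro y; rfl
        | succ N ihN => intro y; rw [pow_succ', pow_succ', Module.End.mul_apply, Module.End.mul_apply, ihN]; rfl
      rw [key, hN, map_zero]
    have hlt : Module.finrank k (V ⧸ L) ≤ n := by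
      have h1 := Submodule.finrank_quotient_add_finrank L
      have h2 : Module.finrank k L = 1 := finrank_span_singleton hp
      omega
    have h0 := ih hlt t' hc'
    have hmem : ∀ x, E x ∈ L ∧ H x ∈ L ∧ F x ∈ L := fun x =>
      ⟨(Submodule.Quotient.mk_eq_zero L).1 (h0 (L.mkQ x)).1, (Submodule.Quotient.mk_eq_zero L).1 (h0 (L.mkQ x)).2.1,
        (Submodule.Quotient.mk_eq_zero L).1 (h0 (L.mkQ x)).2.2⟩
    have hkill : ∀ x ∈ L, E x = 0 ∧ H x = 0 ∧ F x = 0 := fun x hx => by
      obtain ⟨c, rfl⟩ := Submodule.mem_span_singleton.1 hx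
      simp [hEp, hHp0, hFp]
    have hH0 : ∀ x, H x = 0 := fun x => by
      rw [← t.ef x, (hkill _ (hmem x).2.2).1, (hkill _ (hmem x).1).2.2, sub_zero]
    refine ⟨?_, hH0 v, ?_⟩
    · have h2 := t.he v
      rw [hH0, hH0, map_zero, sub_zero] at h2
      exact (smul_eq_zero.1 h2.symm).resolve_left two_ne_zero
    · have h2 := t.hf v
      rw [hH0, hH0, map_zero, sub_zero, eq_comm, neg_eq_zero] at h2
      exact (smul_eq_zero.1 h2).resolve_left two_ne_zero

/-- the kernel of a high power of the Casimir operator consists of invariants -/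
theorem IsTriple.invariant_of_cas_pow (t : IsTriple E H F) (N : ℕ) {v : V} (hv : (cas E H F ^ N) v = 0) :
    E v = 0 ∧ H v = 0 ∧ F v = 0 := by
  let K := LinearMap.ker (cas E H F ^ N)
  have hcomm : ∀ (T : Module.End k V), (∀ w, T (cas E H F w) = cas E H F (T w)) → ∀ x ∈ K, T x ∈ K :=
    fun T hT x hx => by
      have hC : Commute T (cas E H F) := LinearMap.ext hT
      have := congr(($((hC.pow_right N).eq)) x)
      rw [Module.End.mul_apply, Module.End.mul_apply, LinearMap.mem_ker.1 hx, map_zero] at this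
      exact this.symm
  have hE := hcomm E fun w => (t.cas_comm w).1
  have hH := hcomm H fun w => (t.cas_comm w).2.1
  have hF := hcomm F fun w => (t.cas_comm w).2.2
  have key : ∀ (M : ℕ) (x : K), (((cas (E.restrict hE) (H.restrict hH) (F.restrict hF)) ^ M) x : V) =
      (cas E H F ^ M) x := fun M => by
    induction M with
    | zero => intro x; rfl
    | succ M ih =>
      intro x
      rw [pow_succ', pow_succ', Module.End.mul_apply, Module.End.mul_apply, ← ih]
      rfl
  obtain ⟨h1, h2, h3⟩ := trivial_of_cas_nilpotent _ le_rfl (t.restrict hE hH hF)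
    (fun x => ⟨N, Subtype.ext ((key N x).trans x.2)⟩) ⟨v, hv⟩
  exact ⟨congrArg Subtype.val h1, congrArg Subtype.val h2, congrArg Subtype.val h3⟩

end Groth.Agent.Weitzenboeck
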